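import Groth.Agent.L10.CechHDU.Sheafify
import Groth.Agent.L00.RPlusUnit
import Groth.Prelude.Def_CohCx

/-! Cohomology sheaves of bounded below hyperdirect images. -/

universe u

open CategoryTheory CategoryTheory.Limits Opposite TopologicalSpace

set_option autoImplicit false
set_option backward.defeqAttrib.useBackward true
set_option backward.isDefEq.respectTransparency false
set_option backward.isDefEq.respectTransparency.types false

namespace Groth.L10.HyperPush

theorem nonempty_iso {X Y : TopCat.{u}} (f : X ⟶ Y)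
    [HasDerivedCategory.{u} (CohTop.Ab X)] [HasDerivedCategory.{u} (CohTop.Ab Y)]
    (K : CochainComplex.Plus (CohTop.Ab X)) (p : ℤ) :
    Nonempty ((DerivedCategory.Plus.homologyFunctor (CohTop.Ab Y) p).obj
        ((CohTop.push f).rightDerivedFunctorPlus.obj
          (DerivedCategory.Plus.Qh.obj ((HomotopyCategory.Plus.quotient (CohTop.Ab X)).obj K))) ≅
      (presheafToSheaf (Opens.grothendieckTopology Y) AddCommGrpCat.{u}).obj
        ((Opens.map f).op ⋙ CohCx.HDUPresheaf (DerivedCategory.Q.obj K.obj) p)) := by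
  obtain ⟨K', m, hm⟩ := K
  obtain ⟨L, i, h1, h2, h3⟩ := CochainComplex.Plus.modelCategoryQuillen.exists_quasiIso_injective K' m
  let K₀ : CochainComplex.Plus (CohTop.Ab X) := ⟨K', m, hm⟩
  let L₀ : CochainComplex.Plus (CohTop.Ab X) := ⟨L, m, inferInstance⟩
  let i' : K₀ ⟶ L₀ := ObjectProperty.homMk i
  have hqi : QuasiIso i'.hom := inferInstanceAs (QuasiIso i)
  haveI : L.IsKInjective := CochainComplex.isKInjective_of_injective L m
  let F := CohTop.push f
  -- the value on injectives
  have hLu : IsIso (F.rightDerivedFunctorPlusUnit.app ((HomotopyCategory.Plus.quotient (CohTop.Ab X)).obj L₀)) :=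
    (Groth.L00.RPlusUnit.unit_isIso_iff F (𝟙 L₀) (fun n => inferInstanceAs (Injective (L.X n)))).2 (by
      rw [ObjectProperty.FullSubcategory.id_hom, CategoryTheory.Functor.map_id]
      infer_instance)
  have hi : IsIso (DerivedCategory.Plus.Qh.map ((HomotopyCategory.Plus.quotient (CohTop.Ab X)).map i')) :=
    (Groth.L00.RPlusUnit.isIso_plusQ_iff i').2 hqi
  let M := (F.mapHomologicalComplex (ComplexShape.up ℤ)).obj L
  let S := presheafToSheaf (Opens.grothendieckTopology Y) AddCommGrpCat.{u}
  let W := (Functor.whiskeringLeft (Opens Y)ᵒᵖ (Opens X)ᵒᵖ AddCommGrpCat.{u}).obj (Opens.map f).op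
  let e₁ : (DerivedCategory.Plus.homologyFunctor (CohTop.Ab Y) p).obj
      (F.rightDerivedFunctorPlus.obj (DerivedCategory.Plus.Qh.obj ((HomotopyCategory.Plus.quotient (CohTop.Ab X)).obj K₀))) ≅
      M.homology p :=
    (DerivedCategory.Plus.homologyFunctor (CohTop.Ab Y) p).mapIso
      (F.rightDerivedFunctorPlus.mapIso (@asIso _ _ _ _ _ hi) ≪≫ (@asIso _ _ _ _ _ hLu).symm) ≪≫
    (DerivedCategory.homologyFunctorFactors (CohTop.Ab Y) p).app M
  let cx : (S.mapHomologicalComplex (ComplexShape.up ℤ)).obj (CechHDU.pc M) ≅ M :=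
    HomologicalComplex.Hom.isoOfComponents
      (fun j => (asIso (sheafificationAdjunction (Opens.grothendieckTopology Y) AddCommGrpCat.{u}).counit).app (M.X j))
      (fun j k _ => ((sheafificationAdjunction (Opens.grothendieckTopology Y) AddCommGrpCat.{u}).counit.naturality (M.d j k)).symm)
  let e₂ : M.homology p ≅ S.obj ((CechHDU.pc M).homology p) :=
    (HomologicalComplex.homologyFunctor _ _ p).mapIso cx.symm ≪≫ (((CechHDU.pc M).sc p).mapHomologyIso S)
  let pm : CechHDU.pc M ≅ (W.mapHomologicalComplex (ComplexShape.up ℤ)).obj (CechHDU.pc L) :=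
    HomologicalComplex.Hom.isoOfComponents (fun j => Iso.refl _) (fun j k _ => by simp; rfl)
  let e₃ : (CechHDU.pc M).homology p ≅ W.obj ((CechHDU.pc L).homology p) :=
    (HomologicalComplex.homologyFunctor _ _ p).mapIso pm ≪≫ (((CechHDU.pc L).sc p).mapHomologyIso W)
  haveI := CechHDU.isIso_hCls i p
  exact ⟨e₁ ≪≫ e₂ ≪≫ S.mapIso (e₃ ≪≫ W.mapIso (asIso (CechHDU.hCls i p)))⟩

end Groth.L10.HyperPush
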